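import Mathlib

set_option autoImplicit false

/-!
# Abstract lemmas for the torus of order `q + 1` of the small Ree groups

A group `G` with an injective homomorphism `ι : Z₂ × P → G`, a cyclic subgroup `Tor` of `P`,
and the image `A` of `Z₂ × Tor`.
-/

namespace Cfsg.Agent.Lib.Helper3.ReeTor

section abs

variable {G : Type*} [Group G] {P : Type*} [Group P]

theorem z2_mul_self (ε : Multiplicative (ZMod 2)) : ε * ε = 1 := by
  revert ε
  decide

theorem z2_pow_odd (ε : Multiplicative (ZMod 2)) (k : ℕ) (hk : Odd k) : ε ^ k = ε := by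
  obtain ⟨j, rfl⟩ := hk
  rw [pow_succ, pow_mul, pow_two, z2_mul_self, one_pow, one_mul]

/-- in a finite subgroup, an element conjugating it into itself normalises it -/
theorem mem_normalizer_of_forall_conj_mem (H : Subgroup G) [Finite H] (g : G)
    (h : ∀ x ∈ H, g * x * g⁻¹ ∈ H) : g ∈ Subgroup.normalizer (H : Set G) := by
  rw [Subgroup.mem_normalizer_iff]
  intro n
  refine ⟨h n, fun hn => ?_⟩
  let f : ↥H → ↥H := fun x => ⟨g * x * g⁻¹, h x x.2⟩
  have hf : Function.Injective f := by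
    intro x y hxy
    have h1 : g * (x : G) * g⁻¹ = g * (y : G) * g⁻¹ := congrArg Subtype.val hxy
    exact Subtype.ext (mul_left_cancel (mul_right_cancel h1))
  obtain ⟨x, hx⟩ := (Finite.injective_iff_surjective.mp hf) ⟨g * n * g⁻¹, hn⟩
  have h1 : g * (x : G) * g⁻¹ = g * n * g⁻¹ := congrArg Subtype.val hx
  rw [← mul_left_cancel (mul_right_cancel h1)]
  exact x.2

/-- the four elements of square `1` of the image of `Z₂ × Tor`, `Tor` with a unique
involution -/
theorem card_sq_one (ι : Multiplicative (ZMod 2) × P →* G) (hι : Function.Injective ι)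
    (Tor : Subgroup P) (t₁ : P) (ht₁ : t₁ ∈ Tor) (ht₁1 : t₁ ≠ 1) (ht₁2 : t₁ * t₁ = 1)
    (hu : ∀ s ∈ Tor, s * s = 1 → s = 1 ∨ s = t₁)
    (A : Subgroup G)
    (hA : ∀ g : G, g ∈ A ↔ ∃ y : Multiplicative (ZMod 2) × P, y.2 ∈ Tor ∧ ι y = g) :
    Nat.card {x : G // x ∈ A ∧ x * x = 1} = 4 := by
  classical
  have hmem : ∀ p : Multiplicative (ZMod 2) × Bool,
      ι (p.1, if p.2 then t₁ else 1) ∈ A ∧
        ι (p.1, if p.2 then t₁ else 1) * ι (p.1, if p.2 then t₁ else 1) = 1 := by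
    rintro ⟨ε, b⟩
    refine ⟨(hA _).mpr ⟨_, ?_, rfl⟩, ?_⟩
    · cases b
      · exact one_mem Tor
      · exact ht₁
    · rw [← map_mul, Prod.mk_mul_mk, z2_mul_self]
      cases b
      · simp only [Bool.false_eq_true, if_false, mul_one]
        exact map_one ι
      · simp only [if_true, ht₁2]
        exact map_one ι
  let f : Multiplicative (ZMod 2) × Bool → {x : G // x ∈ A ∧ x * x = 1} := fun p =>
    ⟨ι (p.1, if p.2 then t₁ else 1), hmem p⟩
  have hf : Function.Bijective f := by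
    constructor
    · rintro ⟨ε, b⟩ ⟨ε', b'⟩ h
      have h1 : ι (ε, if b then t₁ else 1) = ι (ε', if b' then t₁ else 1) :=
        congrArg Subtype.val h
      have h2 := hι h1
      have h3 : ε = ε' := congrArg Prod.fst h2
      have h4 : (if b then t₁ else 1) = (if b' then t₁ else 1) := congrArg Prod.snd h2
      have h5 : b = b' := by
        cases b <;> cases b' <;> simp at h4 ⊢
        · exact ht₁1 h4.symm
        · exact ht₁1 h4
      rw [h3, h5]
    · rintro ⟨x, hxA, hx2⟩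
      obtain ⟨y, hy, rfl⟩ := (hA x).mp hxA
      rw [← map_mul, ← map_one ι] at hx2
      have h2 := hι hx2
      have h3 : y.2 * y.2 = 1 := congrArg Prod.snd h2
      rcases hu y.2 hy h3 with h | h
      · refine ⟨(y.1, false), Subtype.ext ?_⟩
        show ι (y.1, if false then t₁ else 1) = ι y
        congr 1
        exact Prod.ext rfl (by simp [h])
      · refine ⟨(y.1, true), Subtype.ext ?_⟩
        show ι (y.1, if true then t₁ else 1) = ι y
        congr 1
        exact Prod.ext rfl (by simp [h])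
  rw [← Nat.card_congr (Equiv.ofBijective f hf), Nat.card_prod, Nat.card_eq_fintype_card,
    Nat.card_eq_fintype_card]
  rfl

/-- a generator of the subgroup of order `k` of the image of `Z₂ × Tor`, `Tor` cyclic of order
`2 k` with `k` odd -/
theorem exists_gen_odd (ι : Multiplicative (ZMod 2) × P →* G) (hι : Function.Injective ι)
    (Tor : Subgroup P) (hcyc : IsCyclic Tor) (k : ℕ) (hk : Odd k)
    (hT : Nat.card Tor = 2 * k) (A : Subgroup G)
    (hA : ∀ g : G, g ∈ A ↔ ∃ y : Multiplicative (ZMod 2) × P, y.2 ∈ Tor ∧ ι y = g) :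
    ∃ a₁ : G, a₁ ∈ A ∧ orderOf a₁ = k ∧ ∀ x ∈ A, x ^ k = 1 → x ∈ Subgroup.zpowers a₁ := by
  obtain ⟨⟨τ, hτ⟩, hgen⟩ := IsCyclic.exists_generator (α := Tor)
  have hord : orderOf τ = 2 * k := by
    rw [← hT, ← Subgroup.orderOf_mk τ hτ]
    exact orderOf_eq_card_of_forall_mem_zpowers hgen
  have hk0 : k ≠ 0 := by
    rintro rfl
    exact absurd hk (by decide)
  refine ⟨ι (1, τ ^ 2), (hA _).mpr ⟨_, pow_mem hτ 2, rfl⟩, ?_, ?_⟩
  · rw [orderOf_injective ι hι, Prod.orderOf_mk, orderOf_one, Nat.lcm_one_left,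
      orderOf_pow_of_dvd (by norm_num) (by rw [hord]; exact dvd_mul_right 2 k), hord,
      Nat.mul_div_cancel_left k (by norm_num)]
  · intro x hxA hxk
    obtain ⟨y, hy, rfl⟩ := (hA x).mp hxA
    rw [← map_pow, ← map_one ι] at hxk
    have h2 := hι hxk
    have h3 : y.1 ^ k = 1 := congrArg Prod.fst h2
    have h4 : y.2 ^ k = 1 := congrArg Prod.snd h2
    rw [z2_pow_odd _ k hk] at h3
    obtain ⟨i, hi⟩ := Subgroup.mem_zpowers_iff.mp (hgen ⟨y.2, hy⟩)
    have hi' : τ ^ i = y.2 := by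
      have := congrArg Subtype.val hi
      rwa [Subgroup.coe_zpow] at this
    rw [← hi', ← zpow_natCast, ← zpow_mul] at h4
    have h5 : (orderOf τ : ℤ) ∣ i * k := orderOf_dvd_iff_zpow_eq_one.mpr h4
    rw [hord] at h5
    have h6 : (2 : ℤ) ∣ i := by
      push_cast at h5
      exact (mul_dvd_mul_iff_right (by exact_mod_cast hk0)).mp h5
    obtain ⟨i', rfl⟩ := h6
    rw [Subgroup.mem_zpowers_iff]
    refine ⟨i', ?_⟩
    rw [← map_zpow]
    congr 1
    refine Prod.ext ?_ ?_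
    · simp [h3]
    · show (τ ^ 2) ^ i' = y.2
      rw [← hi', zpow_mul, zpow_ofNat]

/-- elements of `A` of square `≠ 1` have centraliser inside `A` -/
theorem cent_mem_of_sq_ne_one [Finite G] (A : Subgroup G) (N : ℕ) (hA : Nat.card A = N)
    (hcomm : ∀ a ∈ A, ∀ b ∈ A, a * b = b * a)
    (h4 : ∀ x : G, orderOf x ≠ 4)
    (hC : ∀ p : ℕ, p.Prime → p ≠ 2 → p ∣ N → ∀ y : G, y ≠ 1 → y ^ p = 1 →
      Nat.card (Subgroup.centralizer ({y} : Set G)) = N) :
    ∀ x ∈ A, x * x ≠ 1 → ∀ w : G, w * x = x * w → w ∈ A := by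
  intro x hxA hx2 w hw
  have hn0 : 0 < orderOf x := orderOf_pos x
  have hnN : orderOf x ∣ N := by
    rw [← hA]
    exact Subgroup.orderOf_dvd_natCard A hxA
  have hn2 : ¬ orderOf x ∣ 2 := by
    intro h
    apply hx2
    rw [← pow_two]
    exact orderOf_dvd_iff_pow_eq_one.mp h
  obtain ⟨p, hp, hpn, hp2⟩ : ∃ p : ℕ, p.Prime ∧ p ∣ orderOf x ∧ p ≠ 2 := by
    rcases Nat.eq_two_pow_or_exists_odd_prime_and_dvd (orderOf x) with ⟨e, he⟩ | ⟨p, hp, hpn, hodd⟩
    · exfalso
      rcases Nat.lt_or_ge e 2 with h | h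
      · apply hn2
        rw [he]
        exact (pow_dvd_pow 2 (show e ≤ 1 by omega)).trans (by norm_num)
      · apply h4 (x ^ 2 ^ (e - 2))
        rw [orderOf_pow_of_dvd (pow_ne_zero _ (by norm_num))
          (by rw [he]; exact pow_dvd_pow 2 (by omega)), he, Nat.pow_div (by omega) (by norm_num)]
        have : e - (e - 2) = 2 := by omega
        rw [this]
    · refine ⟨p, hp, hpn, ?_⟩
      rintro rfl
      exact absurd hodd (by decide)
  have hy1 : x ^ (orderOf x / p) ≠ 1 :=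
    pow_ne_one_of_lt_orderOf (Nat.div_pos (Nat.le_of_dvd hn0 hpn) hp.pos).ne'
      (Nat.div_lt_self hn0 hp.one_lt)
  have hyp : (x ^ (orderOf x / p)) ^ p = 1 := by
    rw [← pow_mul, Nat.div_mul_cancel hpn, pow_orderOf_eq_one]
  have hcard := hC p hp hp2 (dvd_trans hpn hnN) _ hy1 hyp
  have hle : A ≤ Subgroup.centralizer ({x ^ (orderOf x / p)} : Set G) := by
    intro a ha
    rw [Subgroup.mem_centralizer_iff]
    intro z hz
    rw [Set.mem_singleton_iff] at hz
    rw [hz]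
    exact hcomm _ (pow_mem hxA _) a ha
  have heq : A = Subgroup.centralizer ({x ^ (orderOf x / p)} : Set G) :=
    Subgroup.eq_of_le_of_card_ge hle (by rw [hcard, hA])
  rw [heq, Subgroup.mem_centralizer_iff]
  intro z hz
  rw [Set.mem_singleton_iff] at hz
  rw [hz]
  exact ((Commute.pow_right (show Commute w x from hw) _).eq).symm

/-- the order of the normaliser of `A`, given that its elements of order `2` are conjugate
under the normaliser -/
theorem card_normalizer_of_orbit [Finite G] (A D : Subgroup G) (a : G) (haA : a ∈ A)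
    (ha1 : a ≠ 1) (ha2 : a * a = 1)
    (hsq : Nat.card {x : G // x ∈ A ∧ x * x = 1} = 4)
    (hconj : ∀ s ∈ A, s * s = 1 → s ≠ 1 →
      ∃ g ∈ Subgroup.normalizer (A : Set G), s = g * a * g⁻¹)
    (hN : Nat.card (Subgroup.normalizer (A : Set G)) =
      Set.ncard {x : G | ∃ n ∈ Subgroup.normalizer (A : Set G), x = n * a * n⁻¹} *
        Nat.card D) :
    Nat.card (Subgroup.normalizer (A : Set G)) = 3 * Nat.card D := by
  have horb : {x : G | ∃ n ∈ Subgroup.normalizer (A : Set G), x = n * a * n⁻¹} =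
      {x : G | x ∈ A ∧ x * x = 1} \ {1} := by
    ext x
    constructor
    · rintro ⟨n, hn, rfl⟩
      refine ⟨⟨(Subgroup.mem_normalizer_iff.mp hn a).mp haA, ?_⟩, ?_⟩
      · calc n * a * n⁻¹ * (n * a * n⁻¹) = n * (a * a) * n⁻¹ := by group
          _ = 1 := by rw [ha2]; group
      · intro h
        rw [Set.mem_singleton_iff] at h
        apply ha1
        have e : a = n⁻¹ * (n * a * n⁻¹) * n := by group
        rw [e, h]
        group
    · rintro ⟨⟨hxA, hx2⟩, hx1⟩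
      exact hconj x hxA hx2 hx1
  have h4 : Set.ncard {x : G | x ∈ A ∧ x * x = 1} = 4 := by
    rw [← hsq]
    exact (Nat.card_coe_set_eq _).symm
  rw [hN, horb, Set.ncard_sdiff_singleton_of_mem (show (1 : G) ∈ {x : G | x ∈ A ∧ x * x = 1} from
    ⟨one_mem A, by rw [mul_one]⟩), h4]

/-- an element of order `2` of `A` conjugate to `a` is conjugate to `a` under the normaliser
of `A`, when elements of order `l` of the centraliser of it generate conjugate subgroups -/
theorem exists_normalizer_conj [Finite G] (A : Subgroup G) (a x : G) (l : ℕ) (hl2 : ¬ l ∣ 2)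
    (hxA : x ∈ A) (hxl : orderOf x = l) (hax : a * x = x * a)
    (hcomm : ∀ a ∈ A, ∀ b ∈ A, a * b = b * a)
    (hcent : ∀ x ∈ A, x * x ≠ 1 → ∀ w : G, w * x = x * w → w ∈ A)
    (s : G) (hsA : s ∈ A) (c : G) (hc : s = c * a * c⁻¹)
    (hH : ∀ u v : ↥(Subgroup.centralizer ({s} : Set G)), orderOf u = l → orderOf v = l →
      ∃ d : ↥(Subgroup.centralizer ({s} : Set G)), d * u * d⁻¹ ∈ Subgroup.zpowers v) :
    ∃ g ∈ Subgroup.normalizer (A : Set G), s = g * a * g⁻¹ := by
  have hxs : x ∈ Subgroup.centralizer ({s} : Set G) := by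
    rw [Subgroup.mem_centralizer_iff]
    intro z hz
    rw [Set.mem_singleton_iff] at hz
    rw [hz]
    exact hcomm s hsA x hxA
  have hcxs : c * x * c⁻¹ ∈ Subgroup.centralizer ({s} : Set G) := by
    rw [Subgroup.mem_centralizer_iff]
    intro z hz
    rw [Set.mem_singleton_iff] at hz
    rw [hz, hc]
    calc c * a * c⁻¹ * (c * x * c⁻¹) = c * (a * x) * c⁻¹ := by group
      _ = c * (x * a) * c⁻¹ := by rw [hax]
      _ = c * x * c⁻¹ * (c * a * c⁻¹) := by group
  have ho : orderOf (c * x * c⁻¹) = l := by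
    rw [← hxl]
    exact orderOf_injective (MulAut.conj c).toMonoidHom (MulAut.conj c).injective x
  obtain ⟨d, hd⟩ := hH ⟨c * x * c⁻¹, hcxs⟩ ⟨x, hxs⟩ (by rw [Subgroup.orderOf_mk]; exact ho)
    (by rw [Subgroup.orderOf_mk]; exact hxl)
  obtain ⟨i, hi⟩ := Subgroup.mem_zpowers_iff.mp hd
  have hi' : x ^ i = (d : G) * (c * x * c⁻¹) * (d : G)⁻¹ := by
    have := congrArg Subtype.val hi
    simpa using this
  have hds : (d : G) * s = s * (d : G) :=
    (Subgroup.mem_centralizer_iff.mp d.2 s rfl).symm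
  obtain ⟨dg, hi', hds⟩ : ∃ dg : G, x ^ i = dg * (c * x * c⁻¹) * dg⁻¹ ∧ dg * s = s * dg :=
    ⟨(d : G), hi', hds⟩
  have hgx : dg * c * x * (dg * c)⁻¹ = x ^ i := by
    rw [hi']
    group
  have hgxA : dg * c * x * (dg * c)⁻¹ ∈ A := by
    rw [hgx]
    exact zpow_mem hxA i
  have hgx2 : dg * c * x * (dg * c)⁻¹ * (dg * c * x * (dg * c)⁻¹) ≠ 1 := by
    intro h
    have h1 : x * x = 1 := by
      calc x * x = (dg * c)⁻¹ * (dg * c * x * (dg * c)⁻¹ *
            (dg * c * x * (dg * c)⁻¹)) * (dg * c) := by group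
        _ = 1 := by rw [h]; group
    have h2 : orderOf x ∣ 2 := orderOf_dvd_of_pow_eq_one (by rw [pow_two]; exact h1)
    rw [hxl] at h2
    exact hl2 h2
  refine ⟨dg * c, ?_, ?_⟩
  · apply mem_normalizer_of_forall_conj_mem
    intro y hy
    apply hcent _ hgxA hgx2
    calc dg * c * y * (dg * c)⁻¹ * (dg * c * x * (dg * c)⁻¹)
        = dg * c * (y * x) * (dg * c)⁻¹ := by group
      _ = dg * c * (x * y) * (dg * c)⁻¹ := by rw [hcomm y hy x hxA]
      _ = dg * c * x * (dg * c)⁻¹ * (dg * c * y * (dg * c)⁻¹) := by group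
  · have e1 : s = dg * s * dg⁻¹ := by rw [hds]; group
    rw [e1, hc]
    group

/-- orbit-stabiliser for the conjugation action of a subgroup on an element -/
theorem conj_orbit_card_eq (N D : Subgroup G) (a : G)
    (hD : ∀ g : G, g ∈ D ↔ g ∈ N ∧ a * g = g * a) :
    Nat.card N = Set.ncard {x : G | ∃ n ∈ N, x = n * a * n⁻¹} * Nat.card D := by
  classical
  have hr : ∀ x : {x : G | ∃ n ∈ N, x = n * a * n⁻¹}, ∃ n ∈ N, (x : G) = n * a * n⁻¹ :=
    fun x => x.2
  choose r hrN hrx using hr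
  let X : ↥N → {x : G | ∃ n ∈ N, x = n * a * n⁻¹} := fun n =>
    ⟨(n : G) * a * (n : G)⁻¹, ⟨n, n.2, rfl⟩⟩
  have hcomm : ∀ n : ↥N, (r (X n))⁻¹ * (n : G) ∈ D := by
    intro n
    rw [hD]
    refine ⟨mul_mem (inv_mem (hrN _)) n.2, ?_⟩
    have h : (n : G) * a * (n : G)⁻¹ = r (X n) * a * (r (X n))⁻¹ := hrx (X n)
    calc a * ((r (X n))⁻¹ * (n : G))
        = (r (X n))⁻¹ * (r (X n) * a * (r (X n))⁻¹) * n := by group
      _ = (r (X n))⁻¹ * ((n : G) * a * (n : G)⁻¹) * n := by rw [h]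
      _ = (r (X n))⁻¹ * (n : G) * a := by group
  let f : ↥N → {x : G | ∃ n ∈ N, x = n * a * n⁻¹} × ↥D := fun n =>
    (X n, ⟨(r (X n))⁻¹ * (n : G), hcomm n⟩)
  have hf : Function.Bijective f := by
    constructor
    · intro n n' h
      have h1 : X n = X n' := congrArg Prod.fst h
      have h2 : (r (X n))⁻¹ * (n : G) = (r (X n'))⁻¹ * (n' : G) :=
        congrArg (fun p : {x : G | ∃ n ∈ N, x = n * a * n⁻¹} × ↥D => (p.2 : G)) h
      rw [h1] at h2
      exact Subtype.ext (mul_left_cancel h2)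
    · rintro ⟨y, d⟩
      have hd := (hD d).mp d.2
      have hx : X ⟨r y * d, mul_mem (hrN y) hd.1⟩ = y := by
        apply Subtype.ext
        show r y * (d : G) * a * (r y * (d : G))⁻¹ = y
        rw [hrx y]
        calc r y * (d : G) * a * (r y * (d : G))⁻¹
            = r y * ((d : G) * a) * (d : G)⁻¹ * (r y)⁻¹ := by group
          _ = r y * (a * (d : G)) * (d : G)⁻¹ * (r y)⁻¹ := by rw [hd.2]
          _ = r y * a * (r y)⁻¹ := by group
      refine ⟨⟨r y * d, mul_mem (hrN y) hd.1⟩, ?_⟩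
      refine Prod.ext hx (Subtype.ext ?_)
      show (r (X ⟨r y * d, mul_mem (hrN y) hd.1⟩))⁻¹ * (r y * (d : G)) = d
      rw [hx, inv_mul_cancel_left]
  rw [Nat.card_congr (Equiv.ofBijective f hf), Nat.card_prod, Nat.card_coe_set_eq]

/-- a cyclic group of even order has exactly one involution -/
theorem cyclic_unique_sq_one {T : Type*} [Group T] [Finite T] [IsCyclic T]
    (h2 : 2 ∣ Nat.card T) :
    ∃ t₁ : T, t₁ ≠ 1 ∧ t₁ * t₁ = 1 ∧ ∀ s : T, s * s = 1 → s = 1 ∨ s = t₁ := by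
  obtain ⟨g, hg⟩ := IsCyclic.exists_generator (α := T)
  have hord : orderOf g = Nat.card T := orderOf_eq_card_of_forall_mem_zpowers hg
  obtain ⟨d, hd⟩ := h2
  have hd0 : 0 < d := by
    rcases Nat.eq_zero_or_pos d with h | h
    · rw [h, mul_zero] at hd
      exact absurd hd Nat.card_pos.ne'
    · exact h
  have ht2 : g ^ d * g ^ d = 1 := by
    rw [← pow_add, ← two_mul, ← hd, ← hord, pow_orderOf_eq_one]
  refine ⟨g ^ d, ?_, ht2, ?_⟩
  · exact pow_ne_one_of_lt_orderOf hd0.ne' (by rw [hord, hd]; omega)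
  · intro s hs
    have hs' : s ∈ Submonoid.powers g := (mem_powers_iff_mem_zpowers (x := g) (y := s)).mpr (hg s)
    obtain ⟨i, rfl⟩ := (Submonoid.mem_powers_iff _ _).mp hs'
    rw [← pow_add, ← two_mul] at hs
    have h1 : orderOf g ∣ 2 * i := orderOf_dvd_of_pow_eq_one hs
    rw [hord, hd] at h1
    obtain ⟨e, he⟩ := (Nat.mul_dvd_mul_iff_left (by norm_num : 0 < 2)).mp h1
    rw [he, pow_mul]
    rcases Nat.even_or_odd' e with ⟨f, hf | hf⟩
    · left
      rw [hf, pow_mul, pow_two, ht2, one_pow]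
    · right
      rw [hf, pow_succ, pow_mul, pow_two, ht2, one_pow, one_mul]

/-- the image of `Z₂ × V` -/
def torSub (ι : Multiplicative (ZMod 2) × P →* G) (V : Subgroup P) : Subgroup G :=
  ((⊤ : Subgroup (Multiplicative (ZMod 2))).prod V).map ι

theorem mem_torSub (ι : Multiplicative (ZMod 2) × P →* G) (V : Subgroup P) (g : G) :
    g ∈ torSub ι V ↔ ∃ y : Multiplicative (ZMod 2) × P, y.2 ∈ V ∧ ι y = g := by
  unfold torSub
  rw [Subgroup.mem_map]
  constructor
  · rintro ⟨y, hy, rfl⟩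
    exact ⟨y, (Subgroup.mem_prod.mp hy).2, rfl⟩
  · rintro ⟨y, hy, rfl⟩
    exact ⟨y, Subgroup.mem_prod.mpr ⟨Subgroup.mem_top _, hy⟩, rfl⟩

theorem torSub_card (ι : Multiplicative (ZMod 2) × P →* G) (hι : Function.Injective ι)
    (V : Subgroup P) : Nat.card (torSub ι V) = 2 * Nat.card V := by
  unfold torSub
  rw [Subgroup.card_map_of_injective hι, Nat.card_congr (Subgroup.prodEquiv _ _).toEquiv,
    Nat.card_prod, Subgroup.card_top]
  congr 1
  rw [Nat.card_eq_fintype_card]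
  rfl

/-- the part of the normaliser of the image of `Z₂ × V` centralising the involution -/
theorem mem_torSub_normalizer [Finite G] [Finite P] (a : G)
    (ι : Multiplicative (ZMod 2) × P →* G) (hι : Function.Injective ι)
    (hr : ∀ g : G, a * g = g * a ↔ g ∈ ι.range) (V : Subgroup P) (g : G) :
    g ∈ torSub ι (Subgroup.normalizer (V : Set P)) ↔
      g ∈ Subgroup.normalizer (torSub ι V : Set G) ∧ a * g = g * a := by
  rw [mem_torSub]
  constructor
  · rintro ⟨y, hy, rfl⟩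
    refine ⟨?_, (hr _).mpr ⟨y, rfl⟩⟩
    apply mem_normalizer_of_forall_conj_mem
    intro s hs
    obtain ⟨x, hx, rfl⟩ := (mem_torSub ι V s).mp hs
    rw [← map_inv, ← map_mul, ← map_mul, mem_torSub]
    refine ⟨y * x * y⁻¹, ?_, rfl⟩
    exact (Subgroup.mem_normalizer_iff.mp hy x.2).mp hx
  · rintro ⟨hn, h1⟩
    obtain ⟨y, rfl⟩ := (hr g).mp h1
    refine ⟨y, ?_, rfl⟩
    apply mem_normalizer_of_forall_conj_mem
    intro v hv
    have h2 := (Subgroup.mem_normalizer_iff.mp hn (ι (1, v))).mp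
      ((mem_torSub ι V _).mpr ⟨(1, v), hv, rfl⟩)
    rw [← map_inv, ← map_mul, ← map_mul, mem_torSub] at h2
    obtain ⟨x, hx, hx2⟩ := h2
    have h3 := hι hx2
    have h4 : x.2 = y.2 * v * y.2⁻¹ := congrArg Prod.snd h3
    rw [← h4]
    exact hx

/-- the torus package, abstractly: `G` has an involution `a` with centraliser the image of
`ι : Z₂ × P → G`; `Tor` is a cyclic subgroup of `P` of order `2 k`, `k` odd, of index `2` in
its normaliser, and is the centraliser of an element `yL` of odd order `l` -/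
theorem torus_pkg [Finite G] [Finite P] (a : G) (ha1 : a ≠ 1) (ha2 : a * a = 1)
    (ι : Multiplicative (ZMod 2) × P →* G) (hι : Function.Injective ι)
    (hr : ∀ g : G, a * g = g * a ↔ g ∈ ι.range)
    (Tor : Subgroup P) (hcyc : IsCyclic Tor) (k : ℕ) (hk : Odd k) (hT : Nat.card Tor = 2 * k)
    (hNT : Nat.card (Subgroup.normalizer (Tor : Set P)) = 2 * Nat.card Tor)
    (yL : P) (hT1 : ∀ q : P, q * yL = yL * q ↔ q ∈ Tor)
    (l : ℕ) (hl2 : ¬ l ∣ 2) (hyl : orderOf yL = l)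
    (h4 : ∀ x : G, orderOf x ≠ 4)
    (hC : ∀ p : ℕ, p.Prime → p ≠ 2 → p ∣ 4 * k → ∀ y : G, y ≠ 1 → y ^ p = 1 →
      Nat.card (Subgroup.centralizer ({y} : Set G)) = 4 * k)
    (hinv : ∀ s : G, s * s = 1 → s ≠ 1 → ∃ c : G, s = c * a * c⁻¹)
    (hH : ∀ s : G, s * s = 1 → s ≠ 1 →
      ∀ u v : ↥(Subgroup.centralizer ({s} : Set G)), orderOf u = l → orderOf v = l →
      ∃ d : ↥(Subgroup.centralizer ({s} : Set G)), d * u * d⁻¹ ∈ Subgroup.zpowers v) :
    ∃ (A : Subgroup G) (a₁ : G), Nat.card A = 4 * k ∧ (∀ a ∈ A, ∀ b ∈ A, a * b = b * a) ∧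
      (∀ x ∈ A, x * x ≠ 1 → ∀ w : G, w * x = x * w → w ∈ A) ∧
      Nat.card (Subgroup.normalizer (A : Set G)) = 6 * (4 * k) ∧
      Nat.card {x : G // x ∈ A ∧ x * x = 1} = 4 ∧ a₁ ∈ A ∧ orderOf a₁ = k ∧
      (∀ x ∈ A, x ^ k = 1 → x ∈ Subgroup.zpowers a₁) := by
  have : IsCyclic ↥Tor := hcyc
  have hA : ∀ g : G, g ∈ torSub ι Tor ↔
      ∃ y : Multiplicative (ZMod 2) × P, y.2 ∈ Tor ∧ ι y = g := mem_torSub ι Tor
  have hAcard : Nat.card (torSub ι Tor) = 4 * k := by
    rw [torSub_card ι hι, hT]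
    ring
  have hTcomm : ∀ s ∈ Tor, ∀ t ∈ Tor, s * t = t * s := by
    intro s hs t ht
    obtain ⟨g, hg⟩ := IsCyclic.exists_generator (α := Tor)
    obtain ⟨i, hi⟩ := Subgroup.mem_zpowers_iff.mp (hg ⟨s, hs⟩)
    obtain ⟨j, hj⟩ := Subgroup.mem_zpowers_iff.mp (hg ⟨t, ht⟩)
    have e : (⟨s, hs⟩ : ↥Tor) * ⟨t, ht⟩ = ⟨t, ht⟩ * ⟨s, hs⟩ := by
      rw [← hi, ← hj, ← zpow_add, ← zpow_add, add_comm]
    exact congrArg Subtype.val e
  have hcommA : ∀ u ∈ torSub ι Tor, ∀ v ∈ torSub ι Tor, u * v = v * u := by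
    intro u hu v hv
    obtain ⟨zu, hzu, rfl⟩ := (hA u).mp hu
    obtain ⟨zv, hzv, rfl⟩ := (hA v).mp hv
    rw [← map_mul, ← map_mul]
    congr 1
    exact Prod.ext (mul_comm _ _) (hTcomm _ hzu _ hzv)
  have hyT : yL ∈ Tor := (hT1 yL).mp rfl
  have hxA : ι (1, yL) ∈ torSub ι Tor := (hA _).mpr ⟨(1, yL), hyT, rfl⟩
  have hax : a * ι (1, yL) = ι (1, yL) * a := (hr _).mpr ⟨_, rfl⟩
  have haA : a ∈ torSub ι Tor := by
    obtain ⟨y₀, hy₀⟩ := (hr a).mp rfl
    refine (hA a).mpr ⟨y₀, ?_, hy₀⟩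
    rw [← hT1]
    rw [← hy₀, ← map_mul, ← map_mul] at hax
    exact congrArg Prod.snd (hι hax)
  have hxl : orderOf (ι (1, yL)) = l := by
    rw [orderOf_injective ι hι, Prod.orderOf_mk, orderOf_one, Nat.lcm_one_left, hyl]
  have hcent := cent_mem_of_sq_ne_one (torSub ι Tor) (4 * k) hAcard hcommA h4 hC
  have h2T : 2 ∣ Nat.card Tor := by
    rw [hT]
    exact dvd_mul_right 2 k
  obtain ⟨t₁, ht₁1, ht₁2, ht₁u⟩ := cyclic_unique_sq_one (T := ↥Tor) h2T
  have hsq : Nat.card {x : G // x ∈ torSub ι Tor ∧ x * x = 1} = 4 := by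
    refine card_sq_one ι hι Tor (t₁ : P) t₁.2 (fun h => ht₁1 (Subtype.ext h))
      (congrArg Subtype.val ht₁2) ?_ (torSub ι Tor) hA
    intro s hs hs2
    rcases ht₁u ⟨s, hs⟩ (Subtype.ext hs2) with h | h
    · left
      exact congrArg Subtype.val h
    · right
      exact congrArg Subtype.val h
  obtain ⟨a₁, ha₁A, ha₁o, ha₁u⟩ := exists_gen_odd ι hι Tor hcyc k hk hT (torSub ι Tor) hA
  have hconj : ∀ s ∈ torSub ι Tor, s * s = 1 → s ≠ 1 →
      ∃ g ∈ Subgroup.normalizer (torSub ι Tor : Set G), s = g * a * g⁻¹ := by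
    intro s hsA hs2 hs1
    obtain ⟨c, hc⟩ := hinv s hs2 hs1
    exact exists_normalizer_conj (torSub ι Tor) a (ι (1, yL)) l hl2 hxA hxl hax hcommA hcent s
      hsA c hc (hH s hs2 hs1)
  have hN := conj_orbit_card_eq (Subgroup.normalizer (torSub ι Tor : Set G))
    (torSub ι (Subgroup.normalizer (Tor : Set P))) a (mem_torSub_normalizer a ι hι hr Tor)
  have hNA := card_normalizer_of_orbit (torSub ι Tor)
    (torSub ι (Subgroup.normalizer (Tor : Set P))) a haA ha1 ha2 hsq hconj hN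
  refine ⟨torSub ι Tor, a₁, hAcard, hcommA, hcent, ?_, hsq, ha₁A, ha₁o, ha₁u⟩
  rw [hNA, torSub_card ι hι, hNT, hT]
  ring

end abs

end Cfsg.Agent.Lib.Helper3.ReeTor
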